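import Groth.Agent.Fano.K470.CurDef
import Groth.Agent.Fano.K713.RangeOpen

/-!
# The family of combs with handle a line (node EQ, `move`, of the plan for S16526)

* `irr_pi`: products of finitely many irreducible sets; `pm_pi`.
* `lin`: the curves `(s u + v) ∏_{j ≠ i₀} (s - t_j)`; `pt`: the corresponding points of the comb chart; `mem_chart`.
* `Fam T x p₀ i₀ J`: the irreducible family of combs with handle the line `⟨x, p₀⟩`; `irr_fam`, `fam_subset`.
-/

set_option autoImplicit false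

universe u

namespace K293.CombFam

open LefPen Groth.Agent.Lefpen.H703.ZOpen Module K714.Irr K714.Frames K470.Cur K656.Trilin K714.Surf

variable {k : Type u} [Field k]

section General

variable {V W : Type u} [AddCommGroup V] [Module k V] [AddCommGroup W] [Module k W]

theorem pm_pi {ι : Type} [Finite ι] {φ : V → ι → W} (h : ∀ i, IsPolyMap k (fun v => φ v i)) : IsPolyMap k φ := by
  classical
  cases nonempty_fintype ι
  intro l
  have h1 : (fun v => l (φ v)) = fun v => ∑ i, (l.comp (LinearMap.single k (fun _ : ι => W) i)) (φ v i) := by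
    ext v
    conv_lhs => rw [← Finset.univ_sum_single (φ v), map_sum]
    rfl
  rw [h1]
  exact pf_sum _ fun i _ => h i _

theorem pm_apply {ι : Type} {φ : V → ι → W} (h : IsPolyMap k φ) (i : ι) : IsPolyMap k (fun v => φ v i) :=
  pm_comp (isPolyMap_linear (LinearMap.proj i)) h

/-- products of finitely many irreducible sets -/
theorem irr_pi {n : ℕ} {S : Fin n → Set W} (hS : ∀ i, Irr k (S i)) :
    Irr k {w : Fin n → W | ∀ i, w i ∈ S i} := by
  induction n with
  | zero =>
    refine ⟨⟨0, fun i => i.elim0⟩, ?_⟩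
    rintro O O' - - ⟨v, hv, hvO⟩ ⟨w, -, hwO⟩
    have h1 : w = v := Subsingleton.elim _ _
    exact ⟨v, hv, hvO, h1 ▸ hwO⟩
  | succ n ih =>
    have h1 := (hS 0).prod (ih (S := fun i => S i.succ) fun i => hS i.succ)
    have h2 : IsPolyMap k (fun p : W × (Fin n → W) => (Fin.cons p.1 p.2 : Fin (n + 1) → W)) := by
      refine pm_pi fun i => ?_
      refine Fin.cases ?_ (fun i => ?_) i
      · exact isPolyMap_fst
      · exact pm_apply isPolyMap_snd i
    have h3 := h1.image h2
    have h4 : (fun p : W × (Fin n → W) => (Fin.cons p.1 p.2 : Fin (n + 1) → W)) ''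
        {p | p.1 ∈ S 0 ∧ p.2 ∈ {w : Fin n → W | ∀ i, w i ∈ S i.succ}} = {w | ∀ i, w i ∈ S i} := by
      ext w
      constructor
      · rintro ⟨p, ⟨hp1, hp2⟩, rfl⟩ i
        refine Fin.cases ?_ (fun i => ?_) i
        · exact hp1
        · exact hp2 i
      · intro hw
        exact ⟨(w 0, fun i => w i.succ), ⟨hw 0, fun i => hw i.succ⟩, Fin.cons_self_tail w⟩
    rwa [h4] at h3

/-- coefficients of polynomials depending polynomially on `v` -/
def PC (Q : V → Polynomial k) : Prop := ∀ n, IsPolyFun k (fun v => (Q v).coeff n)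

theorem PC.mul {Q R : V → Polynomial k} (hQ : PC Q) (hR : PC R) : PC (fun v => Q v * R v) := by
  intro n
  simp only [Polynomial.coeff_mul]
  exact pf_sum _ fun i _ => pf_mul (hQ _) (hR _)

theorem PC.prod {ι : Type} (s : Finset ι) {Q : ι → V → Polynomial k} (hQ : ∀ i ∈ s, PC (Q i)) :
    PC (fun v => ∏ i ∈ s, Q i v) := by
  classical
  induction s using Finset.induction_on with
  | empty =>
    intro n
    simp only [Finset.prod_empty]
    exact isPolyFun_const _
  | insert a s ha ih =>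
    have h1 : (fun v => ∏ i ∈ insert a s, Q i v) = fun v => Q a v * ∏ i ∈ s, Q i v := by
      ext1 v
      rw [Finset.prod_insert ha]
    rw [h1]
    exact (hQ a (Finset.mem_insert_self _ _)).mul (ih fun i hi => hQ i (Finset.mem_insert_of_mem hi))

theorem PC_linear {f : V → k} (hf : IsPolyFun k f) : PC (fun v => Polynomial.X - Polynomial.C (f v)) := by
  intro n
  simp only [Polynomial.coeff_sub, Polynomial.coeff_C]
  refine pf_sub (isPolyFun_const _) ?_
  by_cases hn : n = 0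
  · simpa [hn] using hf
  · simpa [hn] using isPolyFun_const (k := k) (V := V) 0

theorem PC_const (Q : Polynomial k) : PC (fun _ : V => Q) := fun _ => isPolyFun_const _

theorem PC.eval {Q : V → Polynomial k} (hQ : PC Q) {N : ℕ} (hN : ∀ v, (Q v).natDegree < N) {f : V → k}
    (hf : IsPolyFun k f) : IsPolyFun k (fun v => (Q v).eval (f v)) := by
  have h1 : (fun v => (Q v).eval (f v)) = fun v => ∑ i ∈ Finset.range N, (Q v).coeff i * f v ^ i := by
    ext v
    rw [Polynomial.eval_eq_sum_range' (hN v)]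
  rw [h1]
  exact pf_sum _ fun i _ => pf_mul (hQ i) (pf_pow hf i)

/-- a nonempty Zariski open subset of `k` containing zero contains a nonzero element -/
theorem exists_ne_zero_mem [Infinite k] {U : Set k} (hU : IsZOpen k U) (h0 : (0 : k) ∈ U) : ∃ β ∈ U, β ≠ 0 := by
  obtain ⟨f, hf, hf0, hfU⟩ := hU 0 h0
  obtain ⟨β, hβ⟩ := exists_mul_ne_zero (k := k) (V := k) (f := f) (g := fun v => v) hf
    (isPolyMap_iff_isPolyFun.1 isPolyMap_id) ⟨0, hf0⟩ ⟨1, one_ne_zero⟩
  exact ⟨β, hfU β (left_ne_zero_of_mul hβ), right_ne_zero_of_mul hβ⟩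

/-- independent linear forms are jointly surjective -/
theorem pi_surjective {r : ℕ} {φ : Fin r → V →ₗ[k] k} (h : LinearIndependent k φ) (y : Fin r → k) :
    ∃ v, ∀ i, φ i v = y i := by
  have h1 : LinearMap.range (LinearMap.pi φ) = ⊤ := by
    by_contra hne
    obtain ⟨f, hf, hle⟩ := Submodule.exists_le_ker_of_lt_top _ (lt_top_iff_ne_top.2 hne)
    apply hf
    have h2 : ∑ i, f (Pi.single i 1) • φ i = 0 := by
      ext v
      have h3 : f (LinearMap.pi φ v) = 0 := hle ⟨v, rfl⟩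
      have h4 : LinearMap.pi φ v = ∑ i, φ i v • (Pi.single i 1 : Fin r → k) := by
        conv_lhs => rw [← Finset.univ_sum_single (LinearMap.pi φ v)]
        refine Finset.sum_congr rfl fun i _ => ?_
        rw [← Pi.single_smul, smul_eq_mul, mul_one]
        rfl
      rw [h4, map_sum] at h3
      simp only [map_smul, smul_eq_mul] at h3
      simp only [LinearMap.sum_apply, LinearMap.smul_apply, smul_eq_mul, LinearMap.zero_apply]
      rw [← h3]
      exact Finset.sum_congr rfl fun i _ => mul_comm _ _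
    have h5 := Fintype.linearIndependent_iff.1 h _ h2
    refine LinearMap.pi_ext' fun i => ?_
    ext
    simpa using h5 i
  have h2 : y ∈ LinearMap.range (LinearMap.pi φ) := h1 ▸ Submodule.mem_top
  obtain ⟨v, hv⟩ := h2
  exact ⟨v, fun i => congrFun hv i⟩

end General

section Curve

variable {e : ℕ}

open Polynomial in
/-- `∏_{j ≠ i₀} (s - t_j)` -/
noncomputable def P (i₀ : Fin e) (t : Fin e → k) : Polynomial k := ∏ j ∈ Finset.univ.erase i₀, (X - C (t j))

theorem natDegree_P (i₀ : Fin e) (t : Fin e → k) : (P i₀ t).natDegree + 1 = e := by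
  rw [P, Polynomial.natDegree_prod_of_monic _ _ fun j _ => Polynomial.monic_X_sub_C _]
  simp only [Polynomial.natDegree_X_sub_C, Finset.sum_const, smul_eq_mul, mul_one]
  rw [Finset.card_erase_of_mem (Finset.mem_univ _), Finset.card_univ, Fintype.card_fin]
  have := i₀.pos
  omega

theorem eval_P (i₀ : Fin e) (t : Fin e → k) {i : Fin e} (hi : i ≠ i₀) : (P i₀ t).eval (t i) = 0 := by
  rw [P, Polynomial.eval_prod]
  exact Finset.prod_eq_zero (Finset.mem_erase.2 ⟨hi, Finset.mem_univ _⟩) (by simp)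

theorem prod_eq (i₀ : Fin e) (t : Fin e → k) :
    ∏ j, (Polynomial.X - Polynomial.C (t j)) = (Polynomial.X - Polynomial.C (t i₀)) * P i₀ t := by
  exact (Finset.mul_prod_erase Finset.univ (fun j => Polynomial.X - Polynomial.C (t j)) (Finset.mem_univ i₀)).symm

/-- `p(s) u` -/
noncomputable def cv (p : Polynomial k) (u : Fin 5 → k) : A k e := fun i => p.coeff (i : ℕ) • u

theorem ev_cv {p : Polynomial k} (hp : p.natDegree ≤ e) (u : Fin 5 → k) (s : k) :
    ev (cv p u : A k e) s = p.eval s • u := by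
  rw [Polynomial.eval_eq_sum_range' (Nat.lt_succ_of_le hp), Finset.sum_smul, ev,
    ← Fin.sum_univ_eq_sum_range (fun i => (p.coeff i * s ^ i) • u)]
  refine Finset.sum_congr rfl fun i _ => ?_
  rw [cv, smul_smul, mul_comm]

theorem hd_cv {p : Polynomial k} (hp : p.natDegree ≤ e) (u : Fin 5 → k) (s : k) :
    hd (cv p u : A k e) 1 s = p.derivative.eval s • u := by
  rw [Polynomial.derivative_eval, Polynomial.sum_over_range' _ (by simp) (e + 1) (Nat.lt_succ_of_le hp),
    Finset.sum_smul, hd, ← Fin.sum_univ_eq_sum_range (fun i => (p.coeff i * i * s ^ (i - 1)) • u)]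
  refine Finset.sum_congr rfl fun i _ => ?_
  rw [cv, smul_smul, Nat.choose_one_right]
  congr 1
  ring

theorem hd_add {a b : A k e} (j : ℕ) (s : k) : hd (a + b) j s = hd a j s + hd b j s := by
  simp only [hd, Pi.add_apply, smul_add, Finset.sum_add_distrib]

theorem ev_add' {a b : A k e} (s : k) : ev (a + b) s = ev a s + ev b s := by
  simp only [ev, Pi.add_apply, smul_add, Finset.sum_add_distrib]

theorem hd_mem {A' : Submodule k (Fin 5 → k)} {a : A k e} (ha : ∀ i, a i ∈ A') (j : ℕ) (s : k) : hd a j s ∈ A' :=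
  Submodule.sum_mem _ fun i _ => Submodule.smul_mem _ _ (ha i)

/-- `(s u + v) ∏_{j ≠ i₀} (s - t_j)` -/
noncomputable def lin (i₀ : Fin e) (t : Fin e → k) (u v : Fin 5 → k) : A k e :=
  cv (Polynomial.X * P i₀ t) u + cv (P i₀ t) v

theorem natDegree_XP (i₀ : Fin e) (t : Fin e → k) : (Polynomial.X * P i₀ t).natDegree ≤ e := by
  refine Polynomial.natDegree_mul_le.trans ?_
  rw [Polynomial.natDegree_X, add_comm, natDegree_P]

theorem natDegree_P_le (i₀ : Fin e) (t : Fin e → k) : (P i₀ t).natDegree ≤ e := by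
  have := natDegree_P i₀ t
  omega

theorem ev_lin (i₀ : Fin e) (t : Fin e → k) (u v : Fin 5 → k) (s : k) :
    ev (lin i₀ t u v) s = (P i₀ t).eval s • (s • u + v) := by
  rw [lin, ev_add', ev_cv (natDegree_XP _ _), ev_cv (natDegree_P_le _ _), Polynomial.eval_mul, Polynomial.eval_X,
    smul_add, smul_smul, mul_comm]

theorem hd_lin (i₀ : Fin e) (t : Fin e → k) (u v : Fin 5 → k) {s : k} (hs : (P i₀ t).eval s = 0) :
    hd (lin i₀ t u v) 1 s = (P i₀ t).derivative.eval s • (s • u + v) := by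
  rw [lin, hd_add, hd_cv (natDegree_XP _ _), hd_cv (natDegree_P_le _ _)]
  simp only [Polynomial.derivative_mul, Polynomial.derivative_X, one_mul, Polynomial.eval_add, Polynomial.eval_mul,
    Polynomial.eval_X, hs, zero_add]
  rw [smul_add, smul_smul, mul_comm]

theorem lin_zero (i₀ : Fin e) (t : Fin e → k) (x : Fin 5 → k) : lin i₀ t x (-(t i₀ • x)) = prodCurve x t := by
  funext i
  simp only [lin, cv, prodCurve, Pi.add_apply]
  rw [prod_eq i₀ t, sub_mul, Polynomial.coeff_sub, Polynomial.coeff_C_mul, sub_smul, sub_eq_add_neg]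
  congr 1
  rw [smul_neg, smul_smul, mul_comm]

theorem lin_mem {A' : Submodule k (Fin 5 → k)} {u v : Fin 5 → k} (hu : u ∈ A') (hv : v ∈ A') (i₀ : Fin e)
    (t : Fin e → k) (i : Fin (e + 1)) : lin i₀ t u v i ∈ A' :=
  Submodule.add_mem _ (Submodule.smul_mem _ _ hu) (Submodule.smul_mem _ _ hv)

/-- the direction of the handle at `s` -/
def dir (x : Fin 5 → k) (i₀ : Fin e) (β : k) (t : Fin e → k) (p : Fin e → Fin 5 → k) (s : k) : Fin 5 → k :=
  s • x + (β • p i₀ - t i₀ • x)

/-- the point of the chart: handle `(s - t_{i₀}) x + β p_{i₀}`, teeth `p_i` at `t_i` -/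
noncomputable def pt (x : Fin 5 → k) (i₀ : Fin e) (β : k) (t : Fin e → k) (p : Fin e → Fin 5 → k) : Y k e :=
  (lin i₀ t x (β • p i₀ - t i₀ • x), t, fun i => if i = i₀ then β * (P i₀ t).eval (t i₀) else 0, p)

theorem pt_zero (x : Fin 5 → k) (i₀ : Fin e) (t : Fin e → k) (p : Fin e → Fin 5 → k) :
    pt x i₀ 0 t p = comb x t p := by
  rw [pt, comb, zero_smul, zero_sub, lin_zero]
  refine Prod.ext rfl (Prod.ext rfl (Prod.ext ?_ rfl))
  funext i
  simp

variable {T : (Fin 5 → k) →ₗ[k] (Fin 5 → k) →ₗ[k] (Fin 5 → k) →ₗ[k] k}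

theorem zero_of_mem (hT : IsSym3 T) {x p₀ : Fin 5 → k} (h : (x, p₀) ∈ FR T) {u v w : Fin 5 → k}
    (hu : u ∈ Submodule.span k {x, p₀}) (hv : v ∈ Submodule.span k {x, p₀}) (hw : w ∈ Submodule.span k {x, p₀}) :
    T u v w = 0 := by
  obtain ⟨-, h1, h2, h3, h4⟩ := h
  simp only at h1 h2 h3 h4
  obtain ⟨a, b, rfl⟩ := Submodule.mem_span_pair.1 hu
  obtain ⟨c, d, rfl⟩ := Submodule.mem_span_pair.1 hv
  obtain ⟨a', b', rfl⟩ := Submodule.mem_span_pair.1 hw
  simp only [map_add, map_smul, LinearMap.add_apply, LinearMap.smul_apply, smul_eq_mul]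
  have e1 : T x p₀ x = 0 := by rw [hT.s23]; exact h2
  have e2 : T p₀ x x = 0 := by rw [hT.rot]; exact h2
  have e3 : T p₀ x p₀ = 0 := by rw [hT.s12]; exact h3
  have e4 : T p₀ p₀ x = 0 := by rw [← hT.rot]; exact h3
  rw [h1, h2, h3, h4, e1, e2, e3, e4]
  ring

theorem mem_chart (hT : IsSym3 T) {x p₀ : Fin 5 → k} (h : (x, p₀) ∈ FR T) (i₀ : Fin e) (β : k) (t : Fin e → k)
    (p : Fin e → Fin 5 → k) (h0 : p i₀ ∈ Submodule.span k {x, p₀})
    (hp : ∀ i, p i ∈ Submodule.span k {x, p₀} ∨ (i ≠ i₀ ∧ T (p i) (p i) (p i) = 0 ∧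
      T (p i) (p i) (dir x i₀ β t p (t i)) = 0 ∧ T (p i) (dir x i₀ β t p (t i)) (dir x i₀ β t p (t i)) = 0)) :
    pt x i₀ β t p ∈ Chart T e := by
  have hx : x ∈ Submodule.span k {x, p₀} := Submodule.subset_span (by simp)
  have hv : β • p i₀ - t i₀ • x ∈ Submodule.span k {x, p₀} :=
    Submodule.sub_mem _ (Submodule.smul_mem _ _ h0) (Submodule.smul_mem _ _ hx)
  have hl := lin_mem hx hv i₀ t
  refine ⟨zero_of_mem hT h (hl _) (hl _) (hl _), fun i => ?_⟩
  have hev : ev (lin i₀ t x (β • p i₀ - t i₀ • x)) (t i) =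
      (if i = i₀ then β * (P i₀ t).eval (t i₀) else 0) • p i := by
    rw [ev_lin]
    by_cases hi : i = i₀
    · subst hi
      rw [if_pos rfl, add_sub_cancel, smul_smul, mul_comm]
    · rw [if_neg hi, eval_P i₀ t hi, zero_smul, zero_smul]
  refine ⟨hev, ?_⟩
  rcases hp i with hi | ⟨hi, h1, h2, h3⟩
  · simp only [pt]
    refine ⟨zero_of_mem hT h hi hi hi, zero_of_mem hT h hi hi (hd_mem hl _ _), ?_⟩
    rw [zero_of_mem hT h hi hi (hd_mem hl _ _), zero_of_mem hT h hi (hd_mem hl _ _) (hd_mem hl _ _), mul_zero,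
      add_zero]
  · simp only [pt]
    rw [if_neg hi, hd_lin _ _ _ _ (eval_P i₀ t hi)]
    have h2' : T (p i) (p i) (t i • x + (β • p i₀ - t i₀ • x)) = 0 := h2
    have h3' : T (p i) (t i • x + (β • p i₀ - t i₀ • x)) (t i • x + (β • p i₀ - t i₀ • x)) = 0 := h3
    refine ⟨h1, ?_, ?_⟩
    · rw [map_smul, h2', smul_zero]
    · rw [zero_mul, zero_add, map_smul, map_smul, LinearMap.smul_apply, h3', smul_zero, smul_zero]

end Curve

section Family

variable {e : ℕ}

variable {V : Type u} [AddCommGroup V] [Module k V]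

theorem pc_P (i₀ : Fin e) {t : V → Fin e → k} (ht : IsPolyMap k t) : PC (fun v => P i₀ (t v)) :=
  PC.prod _ fun _ _ => PC_linear (isPolyMap_pi.1 ht _)

theorem pm_pt (x : Fin 5 → k) (i₀ : Fin e) {β : V → k} (hβ : IsPolyFun k β) {t : V → Fin e → k}
    (ht : IsPolyMap k t) {p : V → Fin e → Fin 5 → k} (hp : IsPolyMap k p) :
    IsPolyMap k (fun v => pt x i₀ (β v) (t v) (p v)) := by
  have hP := pc_P i₀ ht
  have hu : IsPolyMap k (fun v => β v • p v i₀ - t v i₀ • x) :=
    pm_sub (pm_smul hβ (pm_apply hp i₀)) (pm_smul (isPolyMap_pi.1 ht i₀) (isPolyMap_const x))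
  refine pm_prodMk ?_ (pm_prodMk ht (pm_prodMk ?_ hp))
  · refine pm_pi fun i => ?_
    exact pm_add (pm_smul ((PC_const Polynomial.X).mul hP i) (isPolyMap_const x)) (pm_smul (hP i) hu)
  · refine isPolyMap_pi.2 fun i => ?_
    by_cases hi : i = i₀
    · simp only [hi, if_true]
      exact pf_mul hβ (hP.eval (N := e + 1) (fun v => Nat.lt_succ_of_le (natDegree_P_le i₀ (t v)))
        (isPolyMap_pi.1 ht i₀))
    · simp only [hi, if_false]
      exact isPolyFun_const _

/-- parameters: `(γ, c, d)` and a pair for each tooth -/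
abbrev Par (k : Type u) (e : ℕ) : Type u := (k × k × k) × (Fin e → k × (Fin 5 → k))

/-- `β = γ ∏_{j ∉ J} s_j` -/
def parβ (J : Finset (Fin e)) (v : Par k e) : k := v.1.1 * ∏ j ∈ Jᶜ, (v.2 j).1

/-- the positions of the teeth -/
def part (J : Finset (Fin e)) (i₀ : Fin e) (v : Par k e) (i : Fin e) : k :=
  if i ∈ J then (v.2 i).1 else
    (v.2 i₀).1 - parβ J v * v.1.2.2 + v.1.1 * v.1.2.1 * ∏ j ∈ Jᶜ.erase i, (v.2 j).1

/-- the directions of the teeth -/
def parp (x p₀ : Fin 5 → k) (i₀ : Fin e) (v : Par k e) (i : Fin e) : Fin 5 → k :=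
  if i = i₀ then v.1.2.1 • p₀ + v.1.2.2 • x else (v.2 i).2

theorem pf_s (i : Fin e) : IsPolyFun k (fun v : Par k e => (v.2 i).1) :=
  isPolyMap_iff_isPolyFun.1 (isPolyMap_linear ((LinearMap.fst k k (Fin 5 → k)).comp
    ((LinearMap.proj i).comp (LinearMap.snd k (k × k × k) (Fin e → k × (Fin 5 → k))))))

theorem pf_γ : IsPolyFun k (fun v : Par k e => v.1.1) :=
  isPolyMap_iff_isPolyFun.1 (isPolyMap_linear ((LinearMap.fst k k (k × k)).comp
    (LinearMap.fst k (k × k × k) (Fin e → k × (Fin 5 → k)))))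

theorem pf_c : IsPolyFun k (fun v : Par k e => v.1.2.1) :=
  isPolyMap_iff_isPolyFun.1 (isPolyMap_linear ((LinearMap.fst k k k).comp ((LinearMap.snd k k (k × k)).comp
    (LinearMap.fst k (k × k × k) (Fin e → k × (Fin 5 → k))))))

theorem pf_d : IsPolyFun k (fun v : Par k e => v.1.2.2) :=
  isPolyMap_iff_isPolyFun.1 (isPolyMap_linear ((LinearMap.snd k k k).comp ((LinearMap.snd k k (k × k)).comp
    (LinearMap.fst k (k × k × k) (Fin e → k × (Fin 5 → k))))))

theorem pm_par (x p₀ : Fin 5 → k) (i₀ : Fin e) (J : Finset (Fin e)) :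
    IsPolyMap k (fun v : Par k e => pt x i₀ (parβ J v) (part J i₀ v) (parp x p₀ i₀ v)) := by
  have hβ : IsPolyFun k (fun v : Par k e => parβ J v) := pf_mul pf_γ (pf_prod _ fun j _ => pf_s j)
  refine pm_pt x i₀ hβ ?_ ?_
  · refine isPolyMap_pi.2 fun i => ?_
    by_cases hi : i ∈ J
    · simp only [part, hi, if_true]
      exact pf_s i
    · simp only [part, hi, if_false]
      exact pf_add (pf_sub (pf_s i₀) (pf_mul hβ pf_d)) (pf_mul (pf_mul pf_γ pf_c) (pf_prod _ fun j _ => pf_s j))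
  · refine pm_pi fun i => ?_
    by_cases hi : i = i₀
    · simp only [parp, hi, if_true]
      exact pm_add (pm_smul pf_c (isPolyMap_const _)) (pm_smul pf_d (isPolyMap_const _))
    · simp only [parp, hi, if_false]
      exact isPolyMap_linear ((LinearMap.snd k k (Fin 5 → k)).comp
        ((LinearMap.proj i).comp (LinearMap.snd k (k × k × k) (Fin e → k × (Fin 5 → k)))))

variable (T : (Fin 5 → k) →ₗ[k] (Fin 5 → k) →ₗ[k] (Fin 5 → k) →ₗ[k] k)

/-- the conditions on the parameters of a tooth -/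
def Th (x p₀ : Fin 5 → k) (J : Finset (Fin e)) (i : Fin e) : Set (k × (Fin 5 → k)) :=
  {w | (i ∈ J → w.2 ∈ Submodule.span k {x, p₀}) ∧ (i ∉ J → w ∈ Inc T x p₀)}

/-- the family of combs with handle `⟨x, p₀⟩` -/
noncomputable def Fam (x p₀ : Fin 5 → k) (i₀ : Fin e) (J : Finset (Fin e)) : Set (Y k e) :=
  (fun v : Par k e => pt x i₀ (parβ J v) (part J i₀ v) (parp x p₀ i₀ v)) ''
    {v | v.1 ∈ (Set.univ : Set (k × k × k)) ∧ v.2 ∈ {w : Fin e → k × (Fin 5 → k) | ∀ i, w i ∈ Th T x p₀ J i}}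

variable {T}

theorem irr_fam [Infinite k] {x p₀ : Fin 5 → k} (h : Irr k (Inc T x p₀)) (i₀ : Fin e) (J : Finset (Fin e)) :
    Irr k (Fam T x p₀ i₀ J) := by
  refine Irr.image (irr_univ.prod (irr_pi fun i => ?_)) (pm_par x p₀ i₀ J)
  by_cases hi : i ∈ J
  · have h1 : Th T x p₀ J i = (LinearMap.prodMap (LinearMap.id : k →ₗ[k] k)
        (Submodule.span k {x, p₀}).subtype) '' Set.univ := by
      ext w
      simp only [Th, hi, not_true, false_imp_iff, and_true, true_imp_iff, Set.mem_ofPred_eq, Set.image_univ,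
        Set.mem_range]
      constructor
      · intro hw
        exact ⟨(w.1, ⟨w.2, hw⟩), rfl⟩
      · rintro ⟨z, rfl⟩
        exact z.2.2
    rw [h1]
    exact irr_univ.image (isPolyMap_linear _)
  · have h1 : Th T x p₀ J i = Inc T x p₀ := by
      ext w
      simp [Th, hi]
    rwa [h1]

theorem dir_par (x p₀ : Fin 5 → k) {i₀ : Fin e} {J : Finset (Fin e)} (h0 : i₀ ∈ J) (v : Par k e) {i : Fin e}
    (hi : i ∉ J) : dir x i₀ (parβ J v) (part J i₀ v) (parp x p₀ i₀ v) (part J i₀ v i) =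
      (v.1.1 * v.1.2.1 * ∏ j ∈ Jᶜ.erase i, (v.2 j).1) • (x + (v.2 i).1 • p₀) := by
  have h1 : parβ J v = v.1.1 * ((v.2 i).1 * ∏ j ∈ Jᶜ.erase i, (v.2 j).1) := by
    rw [parβ, Finset.mul_prod_erase Jᶜ (fun j => (v.2 j).1) (Finset.mem_compl.2 hi)]
  simp only [dir, part, parp, if_pos h0, if_neg hi, if_true]
  rw [h1]
  module

theorem fam_subset (hT : IsSym3 T) {x p₀ : Fin 5 → k} (h : (x, p₀) ∈ FR T) {i₀ : Fin e} {J : Finset (Fin e)}
    (h0 : i₀ ∈ J) : Fam T x p₀ i₀ J ⊆ Chart T e := by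
  rintro _ ⟨v, ⟨-, hv⟩, rfl⟩
  have hx : x ∈ Submodule.span k {x, p₀} := Submodule.subset_span (by simp)
  have hp₀ : p₀ ∈ Submodule.span k {x, p₀} := Submodule.subset_span (by simp)
  have h1 : parp x p₀ i₀ v i₀ ∈ Submodule.span k {x, p₀} := by
    rw [parp, if_pos rfl]
    exact Submodule.add_mem _ (Submodule.smul_mem _ _ hp₀) (Submodule.smul_mem _ _ hx)
  refine mem_chart hT h i₀ _ _ _ h1 fun i => ?_
  by_cases hi0 : i = i₀
  · rw [hi0]; exact Or.inl h1
  by_cases hi : i ∈ J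
  · left
    rw [parp, if_neg hi0]
    exact (hv i).1 hi
  · right
    obtain ⟨-, -, e1, e2, e3, e4⟩ := (hv i).2 hi
    simp only at e1 e2 e3 e4
    rw [dir_par x p₀ h0 v hi, parp, if_neg hi0]
    refine ⟨hi0, e4, ?_, ?_⟩
    · rw [map_smul, ← hT.rot, e3, smul_zero]
    · rw [map_smul, map_smul, LinearMap.smul_apply, hT.rot, e2, smul_zero, smul_zero]

theorem li3 {x p₀ q : Fin 5 → k} (h : LinearIndependent k ![x, p₀]) (hq : q ∉ Submodule.span k {x, p₀}) :
    LinearIndependent k ![x, p₀, q] := by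
  rw [Fintype.linearIndependent_iff]
  intro g hg
  rw [Fin.sum_univ_three] at hg
  simp only [Matrix.cons_val_zero, Matrix.cons_val_one, Matrix.cons_val] at hg
  have h2 : g 2 = 0 := by
    by_contra hne
    apply hq
    rw [Submodule.mem_span_pair]
    refine ⟨-(g 2)⁻¹ * g 0, -(g 2)⁻¹ * g 1, ?_⟩
    have h3 : q = (g 2)⁻¹ • (g 2 • q) := by rw [smul_smul, inv_mul_cancel₀ hne, one_smul]
    have h4 : g 2 • q = -(g 0 • x + g 1 • p₀) := by
      rw [eq_neg_iff_add_eq_zero, add_comm]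
      exact hg
    rw [h3, h4]
    module
  rw [h2, zero_smul, add_zero] at hg
  obtain ⟨h3, h4⟩ := LinearIndependent.pair_iff.1 h _ _ hg
  intro i
  fin_cases i
  · exact h3
  · exact h4
  · exact h2

theorem li2 {x p₀ q : Fin 5 → k} (h : LinearIndependent k ![x, p₀, q]) (s : k) :
    LinearIndependent k ![x + s • p₀, q] := by
  rw [LinearIndependent.pair_iff]
  intro a b hab
  rw [Fintype.linearIndependent_iff] at h
  have h1 := h ![a, a * s, b] (by
    rw [Fin.sum_univ_three]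
    simp only [Matrix.cons_val_zero, Matrix.cons_val_one, Matrix.cons_val]
    rw [← hab]
    module)
  exact ⟨h1 0, h1 2⟩

theorem pf_tri {u v w : V → Fin 5 → k} (hu : IsPolyMap k u) (hv : IsPolyMap k v) (hw : IsPolyMap k w) :
    IsPolyFun k (fun z => T (u z) (v z) (w z)) := by
  have h1 : IsPolyMap k (fun z => T (u z) (v z)) := K713.RangeOpen.pm_bilin T hu hv
  exact isPolyMap_iff_isPolyFun.1 (K713.RangeOpen.pm_bilin
    (LinearMap.id : ((Fin 5 → k) →ₗ[k] k) →ₗ[k] ((Fin 5 → k) →ₗ[k] k)) h1 hw)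

end Family

end K293.CombFam
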