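import Groth.Agent.Fano.K293.CombFam
import Groth.Agent.Fano.K434.OpenMap

/-!
# Moving the teeth of a comb along one tooth (node EQ, `move`, of the plan for S16526)

* `comb_mem_cl`: combs at a good point are limits of the family `Fam` of combs with handle one of the teeth.
* `move`: the theorem `move` of the plan.
-/

set_option autoImplicit false

universe u

namespace K293.CombMove

open LefPen Groth.Agent.Lefpen.H703.ZOpen Module K714.Irr K714.Frames K470.Cur K656.Trilin K714.Surf K293.CombFam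

variable {k : Type u} [Field k]

section Closure

variable {e : ℕ} {T : (Fin 5 → k) →ₗ[k] (Fin 5 → k) →ₗ[k] (Fin 5 → k) →ₗ[k] k}

/-- the linearised system -/
def lsys (T : (Fin 5 → k) →ₗ[k] (Fin 5 → k) →ₗ[k] (Fin 5 → k) →ₗ[k] k) (x : Fin 5 → k) (J : Finset (Fin e))
    (r : Fin e → k) (p : Fin e → Fin 5 → k) :
    (Fin e → Fin 5 → k) →ₗ[k] ({i : Fin e // i ∉ J} × Fin 3 → k) :=
  LinearMap.pi fun a => ((![(3 : k) • T (p a.1) (p a.1), (2 * r a.1) • T x (p a.1), (r a.1) ^ 2 • T x x] :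
    Fin 3 → (Fin 5 → k) →ₗ[k] k) a.2).comp (LinearMap.proj (a.1 : Fin e))

theorem lsys_surjective [CharZero k] {x : Fin 5 → k} {J : Finset (Fin e)} {r : Fin e → k} (hr : ∀ i ∉ J, r i ≠ 0)
    {p : Fin e → Fin 5 → k} (h1 : ∀ i, First T x (p i)) : Function.Surjective (lsys T x J r p) := by
  classical
  intro y
  have h2 : ∀ i : {i : Fin e // i ∉ J}, ∃ v : Fin 5 → k, ∀ j : Fin 3,
      (![(3 : k) • T (p i) (p i), (2 * r i) • T x (p i), (r i) ^ 2 • T x x] :
        Fin 3 → (Fin 5 → k) →ₗ[k] k) j v = y (i, j) := by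
    intro i
    obtain ⟨v, hv⟩ := pi_surjective (h1 i) ![y (i, 2) / (r i) ^ 2, y (i, 1) / (2 * r i), y (i, 0) / 3]
    have hri : r i ≠ 0 := hr i i.2
    have hv0 : T x x v = y (i, 2) / (r i) ^ 2 := hv 0
    have hv1 : T x (p i) v = y (i, 1) / (2 * r i) := hv 1
    have hv2 : T (p i) (p i) v = y (i, 0) / 3 := hv 2
    refine ⟨v, fun j => ?_⟩
    fin_cases j
    · change (3 : k) * T (p i) (p i) v = y (i, 0)
      rw [hv2]
      field_simp
    · change 2 * r i * T x (p i) v = y (i, 1)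
      rw [hv1]
      field_simp
    · change (r i) ^ 2 * T x x v = y (i, 2)
      rw [hv0]
      field_simp
  choose v hv using h2
  refine ⟨fun i => if h : i ∉ J then v ⟨i, h⟩ else 0, ?_⟩
  funext a
  obtain ⟨i, j⟩ := a
  rw [← hv i j]
  simp only [lsys, LinearMap.pi_apply, LinearMap.comp_apply, LinearMap.proj_apply]
  rw [dif_pos i.2]

/-- the equations for the teeth -/
def sys (T : (Fin 5 → k) →ₗ[k] (Fin 5 → k) →ₗ[k] (Fin 5 → k) →ₗ[k] k) (x : Fin 5 → k) (i₀ : Fin e)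
    (J : Finset (Fin e)) (t : Fin e → k) (p : Fin e → Fin 5 → k) (a : {i : Fin e // i ∉ J} × Fin 3)
    (z : k × (Fin e → Fin 5 → k)) : k :=
  (![T (z.2 a.1) (z.2 a.1) (z.2 a.1), T (z.2 a.1) (z.2 a.1) (dir x i₀ z.1 t p (t a.1)),
    T (z.2 a.1) (dir x i₀ z.1 t p (t a.1)) (dir x i₀ z.1 t p (t a.1))] : Fin 3 → k) a.2

theorem pf_sys (x : Fin 5 → k) (i₀ : Fin e) (J : Finset (Fin e)) (t : Fin e → k) (p : Fin e → Fin 5 → k)
    (a : {i : Fin e // i ∉ J} × Fin 3) : IsPolyFun k (sys T x i₀ J t p a) := by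
  obtain ⟨i, j⟩ := a
  have hz : IsPolyMap k (fun z : k × (Fin e → Fin 5 → k) => z.2 i) := pm_apply isPolyMap_snd _
  have hd : IsPolyMap k (fun z : k × (Fin e → Fin 5 → k) => dir x i₀ z.1 t p (t i)) :=
    pm_add (isPolyMap_const _) (pm_sub (pm_smul (isPolyMap_iff_isPolyFun.1 isPolyMap_fst) (isPolyMap_const _))
      (isPolyMap_const _))
  fin_cases j
  · exact pf_tri hz hz hz
  · exact pf_tri hz hz hd
  · exact pf_tri hz hd hd

theorem dir_zero (x : Fin 5 → k) (i₀ : Fin e) (t : Fin e → k) (p : Fin e → Fin 5 → k) (s : k) :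
    dir x i₀ 0 t p s = (s - t i₀) • x := by
  rw [dir]
  module

theorem sys_zero (hT : IsSym3 T) {x : Fin 5 → k} (i₀ : Fin e) (J : Finset (Fin e)) (t : Fin e → k)
    {p : Fin e → Fin 5 → k} (hp : ∀ i, (x, p i) ∈ FR T) (a : {i : Fin e // i ∉ J} × Fin 3) :
    sys T x i₀ J t p a (0, p) = 0 := by
  obtain ⟨i, j⟩ := a
  obtain ⟨-, e1, e2, e3, e4⟩ := hp i
  simp only at e1 e2 e3 e4
  fin_cases j
  · exact e4
  · change T (p i) (p i) (dir x i₀ 0 t p (t i)) = 0
    rw [dir_zero, map_smul, ← hT.rot, e3, smul_zero]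
  · change T (p i) (dir x i₀ 0 t p (t i)) (dir x i₀ 0 t p (t i)) = 0
    rw [dir_zero, map_smul, map_smul, LinearMap.smul_apply, hT.rot, e2, smul_zero, smul_zero]

theorem sys_der (hT : IsSym3 T) {x : Fin 5 → k} (i₀ : Fin e) (J : Finset (Fin e)) (t : Fin e → k)
    {p : Fin e → Fin 5 → k} (hp : ∀ i, (x, p i) ∈ FR T) (a : {i : Fin e // i ∉ J} × Fin 3)
    (w : Fin e → Fin 5 → k) : ∃ q : Polynomial k, ∀ τ : k, sys T x i₀ J t p a (0, p + τ • w) =
      τ * lsys T x J (fun i => t i - t i₀) p w a + τ ^ 2 * q.eval τ := by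
  obtain ⟨i, j⟩ := a
  obtain ⟨-, e1, e2, e3, e4⟩ := hp i
  simp only at e1 e2 e3 e4
  have e5 : T (p i) (p i) x = 0 := by rw [← hT.rot]; exact e3
  have e6 : T (p i) x x = 0 := by rw [hT.rot]; exact e2
  fin_cases j
  · refine ⟨Polynomial.C (3 * T (p i) (w i) (w i)) + Polynomial.C (T (w i) (w i) (w i)) * Polynomial.X, fun τ => ?_⟩
    change T (p i + τ • w i) (p i + τ • w i) (p i + τ • w i) = τ * (3 * T (p i) (p i) (w i)) + _
    rw [hT.cube_add_smul, e4]
    simp only [Polynomial.eval_add, Polynomial.eval_mul, Polynomial.eval_C, Polynomial.eval_X]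
    ring
  · refine ⟨Polynomial.C ((t i - t i₀) * T (w i) (w i) x), fun τ => ?_⟩
    change T (p i + τ • w i) (p i + τ • w i) (dir x i₀ 0 t p (t i)) =
      τ * (2 * (t i - t i₀) * T x (p i) (w i)) + _
    rw [dir_zero, map_smul, hT.sq_add_smul, e5, smul_eq_mul, Polynomial.eval_C, hT.rot x (p i) (w i)]
    ring
  · refine ⟨0, fun τ => ?_⟩
    change T (p i + τ • w i) (dir x i₀ 0 t p (t i)) (dir x i₀ 0 t p (t i)) =
      τ * ((t i - t i₀) ^ 2 * T x x (w i)) + _
    rw [dir_zero]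
    simp only [map_add, map_smul, LinearMap.add_apply, LinearMap.smul_apply, smul_eq_mul, Polynomial.eval_zero]
    rw [e6, hT.rot (w i) x x]
    ring

/-- combs at a good point are limits of the family of combs with handle one of the teeth -/
theorem comb_mem_cl [IsAlgClosed k] [CharZero k]
    (hT : IsSym3 T) {x p₀ : Fin 5 → k} (h1 : ∀ p, (x, p) ∈ FR T → First T x p) (h₀ : (x, p₀) ∈ FR T)
    {i₀ : Fin e} {t : Fin e → k} {p : Fin e → Fin 5 → k} (hc : IsComb T x t p) {J : Finset (Fin e)}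
    (h0 : i₀ ∈ J) (hJ : ∀ i, i ∈ J ↔ p i ∈ Submodule.span k {x, p₀}) :
    comb x t p ∈ Cl k (Fam T x p₀ i₀ J) := by
  classical
  intro O hO hmem
  obtain ⟨d, c, hcd⟩ := Submodule.mem_span_pair.1 ((hJ i₀).1 h0)
  have hr : ∀ i ∉ J, t i - t i₀ ≠ 0 := fun i hi =>
    sub_ne_zero.2 fun h => hi (hc.1 h ▸ h0)
  have hc0 : c ≠ 0 := by
    rintro rfl
    have h2 := LinearIndependent.pair_iff.1 (hc.2 i₀).1 d (-1) (by
      simp only
      rw [← hcd]
      module)
    exact one_ne_zero (neg_eq_zero.1 h2.2)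
  -- the points of the chart near the comb
  let p' : (k × (Fin e → Fin 5 → k)) → Fin e → Fin 5 → k := fun z i => if i ∈ J then p i else z.2 i
  have hp' : IsPolyMap k p' := by
    refine pm_pi fun i => ?_
    by_cases hi : i ∈ J
    · simp only [p', hi, if_true]
      exact isPolyMap_const _
    · simp only [p', hi, if_false]
      exact pm_apply isPolyMap_snd _
  have hΘ : IsPolyMap k (fun z : k × (Fin e → Fin 5 → k) => pt x i₀ z.1 t (p' z)) :=
    pm_pt x i₀ (isPolyMap_iff_isPolyFun.1 isPolyMap_fst) (isPolyMap_const t) hp'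
  have hO1 : IsZOpen k {z : k × (Fin e → Fin 5 → k) | pt x i₀ z.1 t (p' z) ∈ O} := zo_preimage hO hΘ
  have hO2 : IsZOpen k (⋂ i : Fin e, {z : k × (Fin e → Fin 5 → k) | i ∉ J →
      LinearIndependent k ![x, p₀, z.2 i]}) := by
    refine isZOpen_iInter fun i => ?_
    by_cases hi : i ∈ J
    · simp only [hi, not_true, false_imp_iff]
      exact isZOpen_univ
    · simp only [hi, not_false_eq_true, true_imp_iff]
      have h2 := K713.RangeOpen.isZOpen_linearIndependent (k := k) (V := k × (Fin e → Fin 5 → k)) (W := Fin 5 → k)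
        (r := 3) ![fun _ => x, fun _ => p₀, fun z => z.2 i] (by
          intro j
          fin_cases j
          · exact isPolyMap_const _
          · exact isPolyMap_const _
          · exact pm_apply isPolyMap_snd _)
      have h3 : ∀ z : k × (Fin e → Fin 5 → k), (fun j => (![fun _ => x, fun _ => p₀, fun z => z.2 i] :
          Fin 3 → (k × (Fin e → Fin 5 → k)) → Fin 5 → k) j z) = ![x, p₀, z.2 i] := by
        intro z
        funext j
        fin_cases j <;> rfl
      simpa only [h3] using h2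
  have hO3 : IsZOpen k (⋂ i : Fin e, {z : k × (Fin e → Fin 5 → k) | i ∉ J → t i - t i₀ + z.1 * d ≠ 0}) := by
    refine isZOpen_iInter fun i => ?_
    by_cases hi : i ∈ J
    · simp only [hi, not_true, false_imp_iff]
      exact isZOpen_univ
    · simp only [hi, not_false_eq_true, true_imp_iff]
      exact isZOpen_basic (pf_add (isPolyFun_const _)
        (pf_mul (isPolyMap_iff_isPolyFun.1 isPolyMap_fst) (isPolyFun_const _)))
  have hp0 : p' (0, p) = p := by
    funext i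
    simp [p']
  obtain ⟨U, hU, hU0, hUs⟩ := K434.OpenMap.open_map (h := sys T x i₀ J t p) (pf_sys x i₀ J t p) (x₀ := 0) (w₀ := p)
    (sys_zero hT i₀ J t hc.2) (lsys T x J (fun i => t i - t i₀) p)
    (lsys_surjective hr fun i => h1 _ (hc.2 i)) (sys_der hT i₀ J t hc.2)
    (zo_inter hO1 (zo_inter hO2 hO3)) (by
      refine ⟨?_, ?_, ?_⟩
      · change pt x i₀ 0 t (p' (0, p)) ∈ O
        rw [hp0, pt_zero]
        exact hmem
      · refine Set.mem_iInter.2 fun i hi => ?_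
        exact li3 h₀.1 fun h => hi ((hJ i).2 h)
      · refine Set.mem_iInter.2 fun i hi => ?_
        simp only [zero_mul, add_zero]
        exact hr i hi)
  obtain ⟨β, hβU, hβ⟩ := exists_ne_zero_mem hU hU0
  obtain ⟨w, ⟨hw1, hw2, hw3⟩, hw⟩ := hUs β hβU
  have hw2' : ∀ i ∉ J, LinearIndependent k ![x, p₀, w i] := fun i hi => Set.mem_iInter.1 hw2 i hi
  have hw3' : ∀ i ∉ J, t i - t i₀ + β * d ≠ 0 := fun i hi => Set.mem_iInter.1 hw3 i hi
  -- the parameters
  let s : Fin e → k := fun i => if i ∈ J then t i else β * c / (t i - t i₀ + β * d)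
  have hs : ∀ i ∉ J, s i = β * c / (t i - t i₀ + β * d) := fun i hi => if_neg hi
  have hs0 : ∀ i ∉ J, s i ≠ 0 := fun i hi => by
    rw [hs i hi]
    exact div_ne_zero (mul_ne_zero hβ hc0) (hw3' i hi)
  have hM : ∏ j ∈ Jᶜ, s j ≠ 0 := Finset.prod_ne_zero_iff.2 fun j hj => hs0 j (Finset.mem_compl.1 hj)
  let v : Par k e := ((β / ∏ j ∈ Jᶜ, s j, c, d), fun i => (s i, p' (β, w) i))
  have hvβ : parβ J v = β := by
    change (β / ∏ j ∈ Jᶜ, s j) * ∏ j ∈ Jᶜ, s j = β
    exact div_mul_cancel₀ _ hM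
  have hs1 : s i₀ = t i₀ := if_pos h0
  have hvt : part J i₀ v = t := by
    funext i
    by_cases hi : i ∈ J
    · rw [part, if_pos hi]
      exact if_pos hi
    · rw [part, if_neg hi, hvβ]
      change s i₀ - β * d + (β / ∏ j ∈ Jᶜ, s j) * c * ∏ j ∈ Jᶜ.erase i, s j = t i
      rw [← Finset.mul_prod_erase Jᶜ s (Finset.mem_compl.2 hi)] at hM ⊢
      have hM' : ∏ j ∈ Jᶜ.erase i, s j ≠ 0 := right_ne_zero_of_mul hM
      have h2 : β / (s i * ∏ j ∈ Jᶜ.erase i, s j) * c * ∏ j ∈ Jᶜ.erase i, s j = β * c / s i := by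
        have := hs0 i hi
        field_simp
      rw [h2, hs1, hs i hi]
      have := hw3' i hi
      have h3 : β * c ≠ 0 := mul_ne_zero hβ hc0
      rw [div_div_cancel₀ h3]
      ring
  have hvp : parp x p₀ i₀ v = p' (β, w) := by
    funext i
    by_cases hi : i = i₀
    · subst hi
      rw [parp, if_pos rfl]
      change c • p₀ + d • x = if i ∈ J then p i else w i
      rw [if_pos h0, ← hcd, add_comm]
    · rw [parp, if_neg hi]
  refine ⟨pt x i₀ β t (p' (β, w)), ⟨v, ⟨trivial, fun i => ⟨fun hi => ?_, fun hi => ?_⟩⟩, ?_⟩, hw1⟩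
  · change (if i ∈ J then p i else w i) ∈ _
    rw [if_pos hi]
    exact (hJ i).1 hi
  · have hi' : v.2 i = (s i, w i) := by
      change (s i, if i ∈ J then p i else w i) = _
      rw [if_neg hi]
    rw [hi']
    have hri := hw3' i hi
    have hd : dir x i₀ β t p (t i) = (t i - t i₀ + β * d) • (x + s i • p₀) := by
      rw [dir, hs i hi, ← hcd, smul_add (t i - t i₀ + β * d) x, smul_smul, mul_div_cancel₀ _ hri]
      module
    have g0 : T (w i) (w i) (w i) = 0 := hw (⟨i, hi⟩, 0)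
    have g1 : T (w i) (w i) (dir x i₀ β t p (t i)) = 0 := hw (⟨i, hi⟩, 1)
    have g2 : T (w i) (dir x i₀ β t p (t i)) (dir x i₀ β t p (t i)) = 0 := hw (⟨i, hi⟩, 2)
    rw [hd, map_smul, smul_eq_mul] at g1
    rw [hd, map_smul, map_smul, LinearMap.smul_apply, smul_eq_mul, smul_eq_mul] at g2
    have g1' := (mul_eq_zero.1 g1).resolve_left hri
    have g2' := (mul_eq_zero.1 ((mul_eq_zero.1 g2).resolve_left hri)).resolve_left hri
    have hx : x ∈ Submodule.span k {x, p₀} := Submodule.subset_span (by simp)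
    have hp₀ : p₀ ∈ Submodule.span k {x, p₀} := Submodule.subset_span (by simp)
    have hxs : x + s i • p₀ ∈ Submodule.span k {x, p₀} := Submodule.add_mem _ hx (Submodule.smul_mem _ _ hp₀)
    refine ⟨hw2' i hi, li2 (hw2' i hi) _, zero_of_mem hT h₀ hxs hxs hxs, ?_, ?_, g0⟩
    · rw [← hT.rot]
      exact g2'
    · rw [hT.rot]
      exact g1'
  · simp only
    rw [hvβ, hvt, hvp]

end Closure

/-- moving the teeth along one tooth `⟨x, p i₀⟩` (`K470.PlanCurve.move`) -/
theorem move {T : (Fin 5 → k) →ₗ[k] (Fin 5 → k) →ₗ[k] (Fin 5 → k) →ₗ[k] k} [IsAlgClosed k] [CharZero k]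
    (hT : IsSym3 T) (_hsm : SmoothOn T ⊤) {e : ℕ} {x : Fin 5 → k} (hx : GoodPt T x) {i₀ : Fin e}
    {t t' : Fin e → k} {p p' : Fin e → Fin 5 → k} (hc : IsComb T x t p) (hc' : IsComb T x t' p')
    (_h0 : p' i₀ ∈ Submodule.span k {x, p i₀})
    (h : ∀ i, p i ∈ Submodule.span k {x, p i₀} ↔ p' i ∈ Submodule.span k {x, p i₀}) :
    ∃ S : Set (Y k e), S ⊆ Chart T e ∧ Irr k S ∧ comb x t p ∈ Cl k S ∧ comb x t' p' ∈ Cl k S := by
  classical
  have h₀ : (x, p i₀) ∈ FR T := hc.2 i₀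
  let J : Finset (Fin e) := Finset.univ.filter fun i => p i ∈ Submodule.span k {x, p i₀}
  have hJ : ∀ i, i ∈ J ↔ p i ∈ Submodule.span k {x, p i₀} := fun i => by simp [J]
  have hJ0 : i₀ ∈ J := (hJ i₀).2 (Submodule.subset_span (by simp))
  refine ⟨Fam T x (p i₀) i₀ J, fam_subset hT h₀ hJ0, irr_fam (hx.2.2.1 _ h₀).2 i₀ J, ?_, ?_⟩
  · exact comb_mem_cl hT (fun q hq => (hx.2.2.1 q hq).1) h₀ hc hJ0 hJ
  · exact comb_mem_cl hT (fun q hq => (hx.2.2.1 q hq).1) h₀ hc' hJ0 fun i => (hJ i).trans (h i)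

end K293.CombMove
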